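import Groth.Prelude.Def_W4c5normfunctorschNorm
import Mathlib.RingTheory.Norm.Basic

set_option autoImplicit false

universe u

open scoped TensorProduct

namespace K944.PolLaw

section LawExt

variable {R : Type u} [CommRing R] {M N : Type u} [AddCommGroup M] [Module R M] [AddCommGroup N] [Module R N]

/-- Laws over a ring are determined by their members over commutative rings. -/
theorem law_ext {F G : M →ₚₗ[R] N}
    (h : ∀ (S : Type u) [CommRing S] [Algebra R S] (x : S ⊗[R] M), F.toFun' S x = G.toFun' S x) : F = G := by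
  refine PolynomialLaw.ext ?_
  funext S i1 i2 x
  exact @h S (@RingHom.commSemiringToCommRing R S _ i1 (@algebraMap R S _ _ i2)) i2 x

end LawExt

section bc

variable {R : Type u} [CommRing R] {Q : Type u} [CommRing Q] [Algebra R Q]
  {X : Type u} [AddCommGroup X] [Module R X]
  {Y : Type u} [AddCommGroup Y] [Module R Y] [Module Q Y] [IsScalarTower R Q Y]
  {Z : Type u} [AddCommGroup Z] [Module R Z] [Module Q Z] [IsScalarTower R Q Z]
  {P : Type u} [CommRing P] [Algebra R P] [Algebra Q P] [IsScalarTower R Q P]
  {P' : Type u} [CommRing P'] [Algebra R P'] [Algebra Q P'] [IsScalarTower R Q P']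

@[simp]
theorem bcAlong_tmul (g : X →ₗ[R] Y) (p : P) (x : X) :
    PolLaw.bcAlong (Q := Q) g P (p ⊗ₜ[R] x) = p ⊗ₜ[Q] g x := by
  simp [PolLaw.bcAlong]

theorem bcAlong_smul (g : X →ₗ[R] Y) (p : P) (z : P ⊗[R] X) :
    PolLaw.bcAlong (Q := Q) g P (p • z) = p • PolLaw.bcAlong (Q := Q) g P z := by
  induction z using TensorProduct.induction_on with
  | zero => simp
  | tmul t x => simp [TensorProduct.smul_tmul']
  | add x y hx hy => rw [smul_add, map_add, map_add, smul_add, hx, hy]

theorem bcAlong_nat (g : X →ₗ[R] Y) (φ : P →ₐ[Q] P') (z : P ⊗[R] X) :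
    PolLaw.bcAlong (Q := Q) g P' ((φ.restrictScalars R).toLinearMap.rTensor X z) =
      φ.toLinearMap.rTensor Y (PolLaw.bcAlong (Q := Q) g P z) := by
  induction z using TensorProduct.induction_on with
  | zero => simp
  | tmul t x => simp
  | add x y hx hy => rw [map_add, map_add, map_add, map_add, hx, hy]

theorem bcAlong_comp (g : X →ₗ[R] Y) (h : Y →ₗ[Q] Z) (z : P ⊗[R] X) :
    PolLaw.bcAlong (Q := Q) ((h.restrictScalars R) ∘ₗ g) P z =
      h.lTensor P (PolLaw.bcAlong (Q := Q) g P z) := by
  induction z using TensorProduct.induction_on with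
  | zero => simp
  | tmul t x => simp
  | add x y hx hy => rw [map_add, map_add, map_add, hx, hy]

theorem bcAlong_act {R' Q' : Type u} [CommRing R'] [Algebra R R'] [CommRing Q'] [Algebra R Q'] [Algebra Q Q']
    [Algebra R' Q'] [IsScalarTower R Q Q'] [IsScalarTower R R' Q']
    [Module R' X] [IsScalarTower R R' X] [Module R' Y] [Module Q' Y] [IsScalarTower R R' Y]
    [IsScalarTower R' Q' Y] [IsScalarTower Q Q' Y]
    (f : X →ₗ[R'] Y) (z : P ⊗[R] R') (x : P ⊗[R] X) :
    PolLaw.bcAlong (Q := Q) (f.restrictScalars R) P (PolLaw.actEnd X P z x) =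
      PolLaw.actEnd Y P (PolLaw.bcAlong (Q := Q) (IsScalarTower.toAlgHom R R' Q').toLinearMap P z)
        (PolLaw.bcAlong (Q := Q) (f.restrictScalars R) P x) := by
  induction z using TensorProduct.induction_on with
  | zero => simp
  | add z z' hz hz' => simp only [map_add, LinearMap.add_apply, hz, hz']
  | tmul p r =>
    induction x using TensorProduct.induction_on with
    | zero => simp
    | add x y hx hy => simp only [map_add, hx, hy]
    | tmul t x => simp

/-- `P ⊗[R] X ≃ P ⊗[Q] Y` when `Y` is the base change of `X`. -/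
theorem bcAlong_bijective {g : X →ₗ[R] Y} (hg : IsBaseChange Q g) :
    Function.Bijective (PolLaw.bcAlong (Q := Q) g P) := by
  have h : g.liftBaseChange Q = hg.equiv.toLinearMap := by
    apply LinearMap.ext
    intro z
    induction z using TensorProduct.induction_on with
    | zero => simp
    | tmul q x => simp
    | add x y hx hy => rw [map_add, map_add, hx, hy]
  unfold PolLaw.bcAlong
  rw [h]
  exact (LinearEquiv.lTensor P hg.equiv).bijective.comp
    (TensorProduct.AlgebraTensorModule.cancelBaseChange R Q P P X).symm.bijective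

/-- norms and base change of algebras -/
theorem norm_bcAlong {R' Q' : Type u} [CommRing R'] [Algebra R R'] [CommRing Q'] [Algebra R Q'] [Algebra Q Q']
    [Algebra R' Q'] [IsScalarTower R Q Q'] [IsScalarTower R R' Q'] [Algebra.IsPushout R R' Q Q']
    (z : P ⊗[R] R') :
    Algebra.norm P (PolLaw.bcAlong (Q := Q) (IsScalarTower.toAlgHom R R' Q').toLinearMap P z) =
      Algebra.norm P z := by
  have h0 : IsBaseChange Q (IsScalarTower.toAlgHom R R' Q').toLinearMap :=
    (Algebra.IsPushout.symm (inferInstance : Algebra.IsPushout R R' Q Q')).out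
  let e0 : P ⊗[R] R' ≃ₗ[P] P ⊗[Q] Q' :=
    { toFun := PolLaw.bcAlong (Q := Q) (IsScalarTower.toAlgHom R R' Q').toLinearMap P
      map_add' := map_add _
      map_smul' := bcAlong_smul _
      invFun := (Equiv.ofBijective _ (bcAlong_bijective (P := P) h0)).symm
      left_inv := fun z => (Equiv.ofBijective _ (bcAlong_bijective (P := P) h0)).symm_apply_apply z
      right_inv := fun z => (Equiv.ofBijective _ (bcAlong_bijective (P := P) h0)).apply_symm_apply z }
  have hmul : ∀ x y : P ⊗[R] R', e0 (x * y) = e0 x * e0 y := by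
    intro x y
    change PolLaw.bcAlong _ P _ = PolLaw.bcAlong _ P _ * PolLaw.bcAlong _ P _
    induction x using TensorProduct.induction_on with
    | zero => simp
    | add z z' hz hz' => simp only [map_add, add_mul, hz, hz']
    | tmul p r =>
      induction y using TensorProduct.induction_on with
      | zero => simp
      | add x y hx hy => simp only [map_add, mul_add, hx, hy]
      | tmul t x => simp [Algebra.TensorProduct.tmul_mul_tmul]
  have hone : e0 1 = 1 := by
    change PolLaw.bcAlong _ P _ = _
    simp [Algebra.TensorProduct.one_def]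
  exact Algebra.norm_eq_of_algEquiv (AlgEquiv.ofLinearEquiv e0 hone hmul) z

end bc

section NormNat

variable {R : Type u} [CommRing R] {R' : Type u} [CommRing R'] [Algebra R R'] [Module.Free R R'] [Module.Finite R R']
  {S S' : Type u} [CommRing S] [Algebra R S] [CommRing S'] [Algebra R S']

theorem norm_map (φ : S →ₐ[R] S') (x : S ⊗[R] R') :
    Algebra.norm S' (φ.toLinearMap.rTensor R' x) = φ (Algebra.norm S x) := by
  rw [← PolLaw.detAct_self, ← PolLaw.detAct_self, ← PolLaw.detAct_map R' φ]
  rw [PolLaw.rTensor_algHom_apply]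

end NormNat

end K944.PolLaw
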