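import Groth.Agent.PolLaw.K944.BC

set_option autoImplicit false

universe u

open scoped TensorProduct

namespace K944.PolLaw

section Back

variable {R : Type u} [CommRing R] {Q : Type u} [CommRing Q] [Algebra R Q]
  {X : Type u} [AddCommGroup X] [Module R X]
  {Y : Type u} [AddCommGroup Y] [Module R Y] [Module Q Y] [IsScalarTower R Q Y]
  {Z : Type u} [AddCommGroup Z] [Module R Z] [Module Q Z] [IsScalarTower R Q Z]

variable (Q Y) in
/-- `(Q ⊗[R] S) ⊗[Q] Y → S ⊗[R] Y`, `(q ⊗ s) ⊗ y ↦ s ⊗ q y`. -/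
noncomputable def back (S : Type u) [CommSemiring S] [Algebra R S] : (Q ⊗[R] S) ⊗[Q] Y →ₗ[R] S ⊗[R] Y :=
  (TensorProduct.comm R Y S).toLinearMap ∘ₗ
    ((TensorProduct.AlgebraTensorModule.cancelBaseChange R Q Q Y S).toLinearMap.restrictScalars R) ∘ₗ
    ((TensorProduct.comm Q (Q ⊗[R] S) Y).toLinearMap.restrictScalars R)

@[simp]
theorem back_tmul (S : Type u) [CommSemiring S] [Algebra R S] (q : Q) (s : S) (y : Y) :
    back Q Y S ((q ⊗ₜ[R] s) ⊗ₜ[Q] y) = s ⊗ₜ[R] (q • y) := by
  simp [back]

/-- induction on triple tensors -/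
theorem triple_induction {S : Type u} [CommSemiring S] [Algebra R S] {motive : (Q ⊗[R] S) ⊗[Q] Y → Prop}
    (w : (Q ⊗[R] S) ⊗[Q] Y) (zero : motive 0) (tmul : ∀ q s y, motive ((q ⊗ₜ[R] s) ⊗ₜ[Q] y))
    (add : ∀ x y, motive x → motive y → motive (x + y)) : motive w := by
  induction w using TensorProduct.induction_on with
  | zero => exact zero
  | add x y hx hy => exact add _ _ hx hy
  | tmul t y =>
    induction t using TensorProduct.induction_on with
    | zero => rw [TensorProduct.zero_tmul]; exact zero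
    | tmul q s => exact tmul q s y
    | add a b ha hb => rw [TensorProduct.add_tmul]; exact add _ _ ha hb

theorem back_smul {S : Type u} [CommSemiring S] [Algebra R S] (s : S) (w : (Q ⊗[R] S) ⊗[Q] Y) :
    back Q Y S (((1 : Q) ⊗ₜ[R] s) • w) = s • back Q Y S w := by
  induction w using triple_induction with
  | zero => simp
  | add x y hx hy => rw [smul_add, map_add, map_add, smul_add, hx, hy]
  | tmul q t y => simp [TensorProduct.smul_tmul', Algebra.TensorProduct.tmul_mul_tmul]

theorem back_nat {S S' : Type u} [CommSemiring S] [Algebra R S] [CommSemiring S'] [Algebra R S'] (φ : S →ₐ[R] S')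
    (w : (Q ⊗[R] S) ⊗[Q] Y) :
    back Q Y S' ((Algebra.TensorProduct.map (AlgHom.id Q Q) φ).toLinearMap.rTensor Y w) =
      φ.toLinearMap.rTensor Y (back Q Y S w) := by
  induction w using triple_induction with
  | zero => simp
  | add x y hx hy => rw [map_add, map_add, map_add, map_add, hx, hy]
  | tmul q t y => simp

theorem back_lTensor (h : Y →ₗ[Q] Z) {S : Type u} [CommSemiring S] [Algebra R S] (w : (Q ⊗[R] S) ⊗[Q] Y) :
    back Q Z S (h.lTensor (Q ⊗[R] S) w) = (h.restrictScalars R).lTensor S (back Q Y S w) := by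
  induction w using triple_induction with
  | zero => simp
  | add x y hx hy => rw [map_add, map_add, map_add, map_add, hx, hy]
  | tmul q t y => simp

variable (Q) in
/-- The inclusion `S → Q ⊗ S`. -/
noncomputable abbrev incl (S : Type u) [CommSemiring S] [Algebra R S] : S →ₐ[R] Q ⊗[R] S :=
  Algebra.TensorProduct.includeRight

theorem back_bcAlong_incl (g : X →ₗ[R] Y) {S : Type u} [CommSemiring S] [Algebra R S] (z : S ⊗[R] X) :
    back Q Y S (PolLaw.bcAlong (Q := Q) g (Q ⊗[R] S) ((incl Q S).toLinearMap.rTensor X z)) =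
      g.lTensor S z := by
  induction z using TensorProduct.induction_on with
  | zero => simp
  | add x y hx hy => rw [map_add, map_add, map_add, map_add, hx, hy]
  | tmul s x => simp

/-- The multiplication `Q ⊗[R] P → P`. -/
noncomputable def mulQ (P : Type u) [CommRing P] [Algebra R P] [Algebra Q P] [IsScalarTower R Q P] :
    Q ⊗[R] P →ₐ[Q] P :=
  Algebra.TensorProduct.lift (Algebra.ofId Q P) (AlgHom.id R P) (fun _ _ => Commute.all _ _)

@[simp]
theorem mulQ_tmul (P : Type u) [CommRing P] [Algebra R P] [Algebra Q P] [IsScalarTower R Q P] (q : Q) (p : P) :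
    mulQ (R := R) P (q ⊗ₜ[R] p) = q • p := by
  simp [mulQ, Algebra.ofId_apply, Algebra.smul_def]

theorem mulQ_incl (P : Type u) [CommRing P] [Algebra R P] [Algebra Q P] [IsScalarTower R Q P] (z : P ⊗[R] X) :
    ((mulQ (Q := Q) P).restrictScalars R).toLinearMap.rTensor X ((incl Q P).toLinearMap.rTensor X z) = z := by
  induction z using TensorProduct.induction_on with
  | zero => simp
  | add x y hx hy => rw [map_add, map_add, hx, hy]
  | tmul s x => simp

theorem bcAlong_back {P : Type u} [CommRing P] [Algebra R P] [Algebra Q P] [IsScalarTower R Q P]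
    (w : (Q ⊗[R] P) ⊗[Q] Y) :
    PolLaw.bcAlong (Q := Q) (LinearMap.id : Y →ₗ[R] Y) P (back Q Y P w) =
      (mulQ (R := R) P).toLinearMap.rTensor Y w := by
  induction w using triple_induction with
  | zero => simp
  | add x y hx hy => rw [map_add, map_add, map_add, hx, hy]
  | tmul q t y =>
    simp [TensorProduct.smul_tmul]

theorem bcAlong_id_lTensor (g : X →ₗ[R] Y) {P : Type u} [CommRing P] [Algebra R P] [Algebra Q P]
    [IsScalarTower R Q P] (z : P ⊗[R] X) :
    PolLaw.bcAlong (Q := Q) (LinearMap.id : Y →ₗ[R] Y) P (g.lTensor P z) =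
      PolLaw.bcAlong (Q := Q) g P z := by
  induction z using TensorProduct.induction_on with
  | zero => simp
  | add x y hx hy => rw [map_add, map_add, map_add, hx, hy]
  | tmul s x => simp

end Back

section Descend

variable {R : Type u} [CommRing R] {Q : Type u} [CommRing Q] [Algebra R Q]
  {X : Type u} [AddCommGroup X] [Module R X]
  {M'' : Type u} [AddCommGroup M''] [Module R M''] [Module Q M''] [IsScalarTower R Q M'']
  {Y : Type u} [AddCommGroup Y] [Module R Y] [Module Q Y] [IsScalarTower R Q Y]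

/-- The `R`-law `X → Y` obtained from a `Q`-law `M'' → Y` and an `R`-linear map `X → M''`. -/
noncomputable def descend (ν : M'' →ₚₗ[Q] Y) (f : X →ₗ[R] M'') : X →ₚₗ[R] Y where
  toFun' S _ _ := fun x => back Q Y S (ν.toFun' (Q ⊗[R] S)
    (PolLaw.bcAlong (Q := Q) f (Q ⊗[R] S) ((incl Q S).toLinearMap.rTensor X x)))
  isCompat' {S} _ _ {S'} _ _ φ := by
    funext x
    simp only [Function.comp_apply]
    rw [← back_nat, PolynomialLaw.isCompat_apply', ← bcAlong_nat]
    congr 3
    rw [← LinearMap.comp_apply, ← LinearMap.comp_apply, ← LinearMap.rTensor_comp, ← LinearMap.rTensor_comp]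
    congr 2

theorem descend_apply (ν : M'' →ₚₗ[Q] Y) (f : X →ₗ[R] M'') (S : Type u) [CommSemiring S] [Algebra R S]
    (x : S ⊗[R] X) : (descend ν f).toFun' S x = back Q Y S (ν.toFun' (Q ⊗[R] S)
    (PolLaw.bcAlong (Q := Q) f (Q ⊗[R] S) ((incl Q S).toLinearMap.rTensor X x))) := rfl

/-- over `Q`-algebras -/
theorem bcAlong_descend (ν : M'' →ₚₗ[Q] Y) (f : X →ₗ[R] M'') (P : Type u) [CommRing P] [Algebra R P]
    [Algebra Q P] [IsScalarTower R Q P] (x : P ⊗[R] X) :
    PolLaw.bcAlong (Q := Q) (LinearMap.id : Y →ₗ[R] Y) P ((descend ν f).toFun' P x) =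
      ν.toFun' P (PolLaw.bcAlong (Q := Q) f P x) := by
  rw [descend_apply, bcAlong_back, PolynomialLaw.isCompat_apply', ← bcAlong_nat, mulQ_incl]

theorem descend_isNormic {R' Q' : Type u} [CommRing R'] [Algebra R R'] [CommRing Q'] [Algebra R Q'] [Algebra Q Q']
    [Algebra R' Q'] [IsScalarTower R Q Q'] [IsScalarTower R R' Q'] [Algebra.IsPushout R R' Q Q']
    [Module.Free R R'] [Module.Finite R R']
    [Module R' X] [IsScalarTower R R' X] [Module R' M''] [Module Q' M''] [IsScalarTower R R' M'']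
    [IsScalarTower R' Q' M''] [IsScalarTower Q Q' M'']
    (f : X →ₗ[R'] M'') (ν : M'' →ₚₗ[Q] Y) (hν : PolLaw.IsNormic Q' ν) :
    PolLaw.IsNormic R' (descend ν (f.restrictScalars R)) := by
  intro P _ _ x m
  rw [descend_apply, descend_apply, PolLaw.rTensor_actEnd, bcAlong_act (Q' := Q'), hν, norm_bcAlong,
    ← PolLaw.rTensor_algHom_apply, norm_map]
  exact back_smul _ _

end Descend

end K944.PolLaw
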