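import Groth.Agent.PolLaw.K944.Back

set_option autoImplicit false

universe u

open scoped TensorProduct

namespace K944.PolLaw

section Extend

variable {R : Type u} [CommRing R] {Q : Type u} [CommRing Q] [Algebra R Q]
  {X : Type u} [AddCommGroup X] [Module R X]
  {M'' : Type u} [AddCommGroup M''] [Module R M''] [Module Q M''] [IsScalarTower R Q M'']
  {N : Type u} [AddCommGroup N] [Module R N]
  {Y : Type u} [AddCommGroup Y] [Module R Y] [Module Q Y] [IsScalarTower R Q Y]

/-- the ring structure of a test algebra -/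
noncomputable abbrev ringOf (Q : Type u) [CommRing Q] (S : Type u) [CommSemiring S] [Algebra Q S] : CommRing S :=
  (algebraMap Q S).commSemiringToCommRing

/-- the composite algebra structure -/
noncomputable abbrev algOf (R : Type u) [CommRing R] (Q : Type u) [CommRing Q] [Algebra R Q]
    (S : Type u) [CommSemiring S] [Algebra Q S] : Algebra R S :=
  ((algebraMap Q S).comp (algebraMap R Q)).toAlgebra

theorem towOf (R : Type u) [CommRing R] (Q : Type u) [CommRing Q] [Algebra R Q]
    (S : Type u) [CommSemiring S] [Algebra Q S] :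
    @IsScalarTower R Q S _ _ (algOf R Q S).toSMul :=
  @IsScalarTower.of_algebraMap_eq' R Q S _ _ _ _ _ (algOf R Q S) rfl

/-- A law over `Q` from a natural family over commutative `Q`-algebras. -/
noncomputable def lawOf (R : Type u) [CommRing R] [Algebra R Q]
    (G : ∀ (P : Type u) [CommRing P] [Algebra R P] [Algebra Q P] [IsScalarTower R Q P], P ⊗[Q] M'' → P ⊗[Q] Y)
    (hG : ∀ (P P' : Type u) [CommRing P] [Algebra R P] [Algebra Q P] [IsScalarTower R Q P]
      [CommRing P'] [Algebra R P'] [Algebra Q P'] [IsScalarTower R Q P'] (φ : P →ₐ[Q] P') (x : P ⊗[Q] M''),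
      φ.toLinearMap.rTensor Y (G P x) = G P' (φ.toLinearMap.rTensor M'' x)) : M'' →ₚₗ[Q] Y where
  toFun' S i1 i2 := @G S (ringOf Q S) (algOf R Q S) i2 (towOf R Q S)
  isCompat' {S} i1 i2 {S'} i3 i4 φ := by
    funext x
    exact @hG S S' (ringOf Q S) (algOf R Q S) i2 (towOf R Q S) (ringOf Q S') (algOf R Q S') i4 (towOf R Q S') φ x

theorem lawOf_apply
    (G : ∀ (P : Type u) [CommRing P] [Algebra R P] [Algebra Q P] [IsScalarTower R Q P], P ⊗[Q] M'' → P ⊗[Q] Y)
    (hG : ∀ (P P' : Type u) [CommRing P] [Algebra R P] [Algebra Q P] [IsScalarTower R Q P]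
      [CommRing P'] [Algebra R P'] [Algebra Q P'] [IsScalarTower R Q P'] (φ : P →ₐ[Q] P') (x : P ⊗[Q] M''),
      φ.toLinearMap.rTensor Y (G P x) = G P' (φ.toLinearMap.rTensor M'' x))
    (P : Type u) [i1 : CommRing P] [i2 : Algebra R P] [i3 : Algebra Q P] [i4 : IsScalarTower R Q P] (x : P ⊗[Q] M'') :
    (lawOf R G hG).toFun' P x = G P x := by
  have h := @hG P P (ringOf Q P) (algOf R Q P) i3 (towOf R Q P) i1 i2 i3 i4 (AlgHom.id Q P) x
  have e1 : ∀ (W : Type u) [AddCommGroup W] [Module Q W] (y : P ⊗[Q] W),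
      (AlgHom.id Q P).toLinearMap.rTensor W y = y := by
    intro W _ _ y
    exact congrArg (fun f => f y) (LinearMap.rTensor_id W P)
  erw [e1, e1] at h
  exact h

/-- The inverse of `bcAlong`. -/
noncomputable def bcInv {g : X →ₗ[R] M''} (hg : IsBaseChange Q g) (P : Type u) [CommRing P] [Algebra R P] [Algebra Q P]
    [IsScalarTower R Q P] : P ⊗[Q] M'' → P ⊗[R] X :=
  (Equiv.ofBijective _ (bcAlong_bijective (P := P) hg)).symm

theorem bcInv_bcAlong {g : X →ₗ[R] M''} (hg : IsBaseChange Q g) (P : Type u) [CommRing P] [Algebra R P] [Algebra Q P]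
    [IsScalarTower R Q P] (x : P ⊗[R] X) : bcInv hg P (PolLaw.bcAlong (Q := Q) g P x) = x :=
  (Equiv.ofBijective _ (bcAlong_bijective (P := P) hg)).symm_apply_apply x

theorem bcAlong_bcInv {g : X →ₗ[R] M''} (hg : IsBaseChange Q g) (P : Type u) [CommRing P] [Algebra R P] [Algebra Q P]
    [IsScalarTower R Q P] (x : P ⊗[Q] M'') : PolLaw.bcAlong (Q := Q) g P (bcInv hg P x) = x :=
  (Equiv.ofBijective _ (bcAlong_bijective (P := P) hg)).apply_symm_apply x

theorem bcInv_nat {g : X →ₗ[R] M''} (hg : IsBaseChange Q g) (P P' : Type u) [CommRing P] [Algebra R P] [Algebra Q P]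
    [IsScalarTower R Q P] [CommRing P'] [Algebra R P'] [Algebra Q P'] [IsScalarTower R Q P'] (φ : P →ₐ[Q] P')
    (x : P ⊗[Q] M'') :
    bcInv hg P' (φ.toLinearMap.rTensor M'' x) = (φ.restrictScalars R).toLinearMap.rTensor X (bcInv hg P x) := by
  apply (bcAlong_bijective (P := P') hg).1
  rw [bcAlong_bcInv, bcAlong_nat, bcAlong_bcInv]

/-- The `Q`-law `M'' → Y` from an `R`-law `X → N`, an `R`-linear map `N → Y`, and `M'' = Q ⊗ X`. -/
noncomputable def extend {f : X →ₗ[R] M''} (hf : IsBaseChange Q f) (ν : X →ₚₗ[R] N) (g : N →ₗ[R] Y) : M'' →ₚₗ[Q] Y :=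
  lawOf R (fun P _ _ _ _ x => PolLaw.bcAlong (Q := Q) g P (ν.toFun' P (bcInv hf P x)))
    (fun P P' _ _ _ _ _ _ _ _ φ x => by
      rw [bcInv_nat, ← PolynomialLaw.isCompat_apply', bcAlong_nat])

theorem extend_bcAlong {f : X →ₗ[R] M''} (hf : IsBaseChange Q f) (ν : X →ₚₗ[R] N) (g : N →ₗ[R] Y)
    (P : Type u) [CommRing P] [Algebra R P] [Algebra Q P] [IsScalarTower R Q P] (x : P ⊗[R] X) :
    (extend hf ν g).toFun' P (PolLaw.bcAlong (Q := Q) f P x) = PolLaw.bcAlong (Q := Q) g P (ν.toFun' P x) := by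
  rw [extend, lawOf_apply, bcInv_bcAlong]

theorem extend_isNormic {R' Q' : Type u} [CommRing R'] [Algebra R R'] [CommRing Q'] [Algebra R Q'] [Algebra Q Q']
    [Algebra R' Q'] [IsScalarTower R Q Q'] [IsScalarTower R R' Q'] [Algebra.IsPushout R R' Q Q']
    [Module R' X] [IsScalarTower R R' X] [Module R' M''] [Module Q' M''] [IsScalarTower R R' M'']
    [IsScalarTower R' Q' M''] [IsScalarTower Q Q' M'']
    (f : X →ₗ[R'] M'') (hf : IsBaseChange Q (f.restrictScalars R)) (ν : X →ₚₗ[R] N) (hν : PolLaw.IsNormic R' ν)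
    (g : N →ₗ[R] Y) : PolLaw.IsNormic Q' (extend hf ν g) := by
  intro P i1 i2 y m
  let i3 : Algebra R P := ((algebraMap Q P).comp (algebraMap R Q)).toAlgebra
  have i4 : IsScalarTower R Q P := IsScalarTower.of_algebraMap_eq' rfl
  have h0 : IsBaseChange Q (IsScalarTower.toAlgHom R R' Q').toLinearMap :=
    (Algebra.IsPushout.symm (inferInstance : Algebra.IsPushout R R' Q Q')).out
  obtain ⟨m, rfl⟩ := (bcAlong_bijective (P := P) hf).2 m
  obtain ⟨y, rfl⟩ := (bcAlong_bijective (P := P) h0).2 y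
  rw [← bcAlong_act (Q' := Q') f, extend_bcAlong, extend_bcAlong, norm_bcAlong, hν, bcAlong_smul]

end Extend

section Main

theorem isBaseChange_restrict {R R' Q Q' : Type u} [CommRing R] [CommRing R'] [Algebra R R']
    [CommRing Q] [Algebra R Q] [CommRing Q'] [Algebra R Q'] [Algebra Q Q'] [Algebra R' Q']
    [IsScalarTower R Q Q'] [IsScalarTower R R' Q'] [Algebra.IsPushout R R' Q Q']
    {M' : Type u} [AddCommGroup M'] [Module R M'] [Module R' M'] [IsScalarTower R R' M']
    {M'' : Type u} [AddCommGroup M''] [Module R M''] [Module R' M''] [Module Q M''] [Module Q' M'']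
    [IsScalarTower R R' M''] [IsScalarTower R Q M''] [IsScalarTower R' Q' M''] [IsScalarTower Q Q' M'']
    (f : M' →ₗ[R'] M'') (hf : IsBaseChange Q' f) : IsBaseChange Q (f.restrictScalars R) := by
  have : Algebra.IsPushout R Q R' Q' := Algebra.IsPushout.symm inferInstance
  refine IsBaseChange.of_equiv (((Algebra.IsPushout.cancelBaseChange R Q R' Q' M').symm).trans
    (hf.equiv.restrictScalars Q)) fun x => ?_
  simp

end Main

end K944.PolLaw
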